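-- Team project OHYP (S5992), package [CNTCAUCHY] (helper80).
import Cfsg.Agent.Lib.Helper23.OHyp.CntDefs

set_option autoImplicit false
open scoped MatrixGroups
open Matrix

namespace Cfsg.Agent.Lib.Helper80.OHyp

open Cfsg.Agent.Lib.Helper23.OHyp

universe u

/-- [CNTCAUCHY] the pointwise stabilizer of `movSp x` has no element of order `r` when
`dim fixSp x < c`. -/
theorem pkgCntCauchy_of (hS : PkgSplit.{u}) (hD : PkgDiv.{u}) : PkgCntCauchy.{u} := by
  intro F _ _ ι _ _ Q r x hx hlt g hg hfix hgr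
  have hgiso : ∀ v, Q ((g : Matrix ι ι F) *ᵥ v) = Q v := fun v => hg v v
  have hgpow : (g : Matrix ι ι F) ^ r = 1 := by
    have h := congrArg (fun y : GL ι F => (y : Matrix ι ι F)) hgr
    simpa using h
  have hgS : Std Q r (g : Matrix ι ι F) :=
    ⟨hx.nondeg, hx.two, hx.prime, hx.ne_two, hx.ndvd, hx.ne, hgpow, hgiso⟩
  obtain ⟨-, hNdM, hPerp, hCompl, -, -⟩ := hS F ι Q r x hx
  obtain ⟨-, hgNdM, -, -, hgInvM, -⟩ := hS F ι Q r _ hgS
  have hbil := hx.nondeg.polar_bilinear
  have hsub : ∀ a b u : ι → F, QuadraticMap.polar Q (a - b) u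
      = QuadraticMap.polar Q a u - QuadraticMap.polar Q b u := by
    intro a b u
    have h := hbil.add_left (a - b) b u
    rw [sub_add_cancel] at h
    rw [h]; ring
  have hpol : ∀ u v, QuadraticMap.polar Q ((g : Matrix ι ι F) *ᵥ u) ((g : Matrix ι ι F) *ᵥ v)
      = QuadraticMap.polar Q u v := by
    intro u v
    simp only [QuadraticMap.polar]
    rw [← Matrix.mulVec_add, hgiso, hgiso, hgiso]
  have hle : movSp (g : Matrix ι ι F) ≤ fixSp x := by
    intro w hw
    obtain ⟨v, rfl⟩ := hw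
    have h1 : (Matrix.toLin' (g : Matrix ι ι F) - 1) v = (g : Matrix ι ι F) *ᵥ v - v := by
      simp
    rw [h1]
    have hperp : ∀ u ∈ movSp x, QuadraticMap.polar Q ((g : Matrix ι ι F) *ᵥ v - v) u = 0 := by
      intro u hu
      rw [hsub]
      have h2 := hpol v u
      rw [hfix u hu] at h2
      rw [h2, sub_self]
    have htop : ((g : Matrix ι ι F) *ᵥ v - v) ∈ fixSp x ⊔ movSp x := by
      rw [hCompl.sup_eq_top]; exact Submodule.mem_top
    obtain ⟨a, ha, b, hb, hab⟩ := Submodule.mem_sup.mp htop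
    have hb0 : b = 0 := by
      by_contra hne
      obtain ⟨-, u, hu, hu0⟩ := hNdM b hb hne
      apply hu0
      have hbe : b = ((g : Matrix ι ι F) *ᵥ v - v) - a := by rw [← hab]; abel
      rw [hbe, hsub, hperp u hu, hPerp a ha u hu, sub_self]
    rw [← hab, hb0, add_zero]
    exact ha
  have hfin : Module.finrank F (movSp (g : Matrix ι ι F)) ≤ Module.finrank F (fixSp x) :=
    Submodule.finrank_mono hle
  have hdiv := (hD F ι Q r _ hgS (movSp (g : Matrix ι ι F)) le_rfl hgInvM hgNdM).1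
  have h0 : Module.finrank F (movSp (g : Matrix ι ι F)) = 0 :=
    Nat.eq_zero_of_dvd_of_lt hdiv (lt_of_le_of_lt hfin hlt)
  have hbot : movSp (g : Matrix ι ι F) = ⊥ := Submodule.finrank_eq_zero.mp h0
  have hz : Matrix.toLin' (g : Matrix ι ι F) - 1 = 0 := LinearMap.range_eq_bot.mp hbot
  have hone : (g : Matrix ι ι F) = 1 := by
    apply Matrix.toLin'.injective
    rw [Matrix.toLin'_one]
    exact sub_eq_zero.mp hz
  exact Units.ext hone

end Cfsg.Agent.Lib.Helper80.OHyp
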