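-- Team project OHYP (S5992), package [MINUS] of helper27's cut of [BLK] (helper80).
import Cfsg.Agent.Lib.Helper27.OHyp.BlkDefs

set_option autoImplicit false
open Matrix

namespace Cfsg.Agent.Lib.Helper80.OHyp

open Cfsg.Agent.Lib.Helper23.OHyp Cfsg.Agent.Lib.Helper27.OHyp

universe u

section generic

variable {F : Type*} [Field F] {V : Type*} [AddCommGroup V] [Module F V]

/-- In a space `D` on which `B` is (left) nondegenerate, a totally isotropic subspace `S` of half
the dimension is its own orthogonal inside `D`. -/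
theorem orth_eq_self80 [Module.Finite F V] (B : V →ₗ[F] V →ₗ[F] F) (D S : Submodule F V)
    (hSD : S ≤ D) (hnd : ∀ s ∈ S, s ≠ 0 → ∃ d ∈ D, B s d ≠ 0)
    (hiso : ∀ s ∈ S, ∀ t ∈ S, B s t = 0)
    (hdim : 2 * Module.finrank F S = Module.finrank F D) :
    ∀ v ∈ D, (∀ s ∈ S, B s v = 0) → v ∈ S := by
  let θ : S →ₗ[F] Module.Dual F D := B.domRestrict₁₂ S D
  have hθ : ∀ (s : S) (d : D), θ s d = B s d := fun s d => rfl
  have hinj : Function.Injective θ := by
    rw [← LinearMap.ker_eq_bot, Submodule.eq_bot_iff]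
    intro s hs
    by_contra hne
    have hne' : (s : V) ≠ 0 := fun h => hne (Subtype.ext h)
    obtain ⟨d, hd, hB⟩ := hnd s s.2 hne'
    apply hB
    have h1 : θ s ⟨d, hd⟩ = 0 := by rw [LinearMap.mem_ker.mp hs]; rfl
    rw [hθ] at h1
    exact h1
  have hR : Module.finrank F (LinearMap.range θ) = Module.finrank F S :=
    LinearMap.finrank_range_of_inj hinj
  have hco := Subspace.finrank_add_finrank_dualCoannihilator_eq (LinearMap.range θ)
  let S' : Submodule F D := S.comap D.subtype
  have hS' : Module.finrank F S' = Module.finrank F S :=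
    (Submodule.comapSubtypeEquivOfLe hSD).finrank_eq
  have hle : S' ≤ (LinearMap.range θ).dualCoannihilator := by
    intro d hd
    rw [Submodule.mem_dualCoannihilator]
    rintro φ ⟨s, rfl⟩
    rw [hθ]
    exact hiso s s.2 d hd
  have heq : S' = (LinearMap.range θ).dualCoannihilator := by
    apply Submodule.eq_of_le_of_finrank_eq hle
    omega
  intro v hv hvS
  have hmem : (⟨v, hv⟩ : D) ∈ S' := by
    rw [heq, Submodule.mem_dualCoannihilator]
    rintro φ ⟨s, rfl⟩
    rw [hθ]
    exact hvS s s.2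
  exact hmem

/-- All fibres of a nonzero linear functional on a finite space have the same size. -/
theorem fiber_card80 [Fintype F] {M : Type*} [AddCommGroup M] [Module F M] [Finite M]
    (φ : M →ₗ[F] F) (hφ : φ ≠ 0) (a : F) :
    Nat.card {s : M // φ s = a} * Fintype.card F = Nat.card M := by
  classical
  obtain ⟨s0, hs0⟩ : ∃ s0, φ s0 ≠ 0 := by
    by_contra h
    push Not at h
    exact hφ (LinearMap.ext h)
  have key : ∀ b : F, Nat.card {s : M // φ s = b} = Nat.card {s : M // φ s = a} := by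
    intro b
    apply Nat.card_congr
    have ht : φ (((b - a) / φ s0) • s0) = b - a := by
      rw [map_smul, smul_eq_mul, div_mul_cancel₀ _ hs0]
    refine ⟨fun s => ⟨s.1 - ((b - a) / φ s0) • s0, by rw [map_sub, s.2, ht]; ring⟩,
      fun s => ⟨s.1 + ((b - a) / φ s0) • s0, by rw [map_add, s.2, ht]; ring⟩, ?_, ?_⟩
    · intro s; ext; simp
    · intro s; ext; simp
  have h1 : Nat.card M = ∑ b : F, Nat.card {s : M // φ s = b} := by
    rw [← Nat.card_congr (Equiv.sigmaFiberEquiv φ), Nat.card_sigma]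
  rw [h1, Finset.sum_congr rfl (fun b _ => key b), Finset.sum_const, Finset.card_univ,
    smul_eq_mul, mul_comm]

/-- The number of vectors of norm `c ≠ 0` in a nondegenerate space containing a totally singular
subspace `S` of half the dimension. -/
theorem level_card80 [Fintype F] [Module.Finite F V] [Finite V]
    (Q : V → F) (B : V →ₗ[F] V →ₗ[F] F)
    (hQ : ∀ u v, Q (u + v) = Q u + Q v + B u v)
    (D S : Submodule F V) (hSD : S ≤ D)
    (hnd : ∀ s ∈ S, s ≠ 0 → ∃ d ∈ D, B s d ≠ 0)
    (hsing : ∀ s ∈ S, Q s = 0)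
    (hdim : 2 * Module.finrank F S = Module.finrank F D) (c : F) (hc : c ≠ 0) :
    Nat.card {v : V // v ∈ D ∧ Q v = c} * Fintype.card F
      = (Nat.card S - 1) * Nat.card S := by
  classical
  have hiso : ∀ s ∈ S, ∀ t ∈ S, B s t = 0 := by
    intro s hs t ht
    have h := hQ s t
    rw [hsing _ (S.add_mem hs ht), hsing s hs, hsing t ht] at h
    simpa using h.symm
  have hK := orth_eq_self80 B D S hSD hnd hiso hdim
  obtain ⟨S', hS'⟩ := Submodule.exists_isCompl S
  have hinf : S ⊓ (S' ⊓ D) = ⊥ := by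
    rw [← inf_assoc, hS'.inf_eq_bot, bot_inf_eq]
  have hsup : S ⊔ (S' ⊓ D) = D := by
    rw [← sup_inf_assoc_of_le S' hSD, hS'.sup_eq_top, top_inf_eq]
  obtain ⟨S1, hS1⟩ : ∃ S1 : Submodule F V, S1 = S' ⊓ D := ⟨_, rfl⟩
  rw [← hS1] at hinf hsup
  have hS1D : S1 ≤ D := by rw [hS1]; exact inf_le_right
  have hfin1 : Module.finrank F S1 = Module.finrank F S := by
    have h := Submodule.finrank_sup_add_finrank_inf_eq S S1
    rw [hinf, hsup, finrank_bot] at h
    omega
  have hcard1 : Nat.card S1 = Nat.card S := by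
    have e : S1 ≃ₗ[F] S := LinearEquiv.ofFinrankEq _ _ hfin1
    exact Nat.card_congr e.toEquiv
  -- the parametrisation
  let g : {p : S1 × S // Q ((p.2 : V) + (p.1 : V)) = c} → {v : V // v ∈ D ∧ Q v = c} :=
    fun p => ⟨(p.1.2 : V) + (p.1.1 : V), D.add_mem (hSD p.1.2.2) (hS1D p.1.1.2), p.2⟩
  have hg : Function.Bijective g := by
    constructor
    · intro p p' h
      have h1 : (p.1.2 : V) + (p.1.1 : V) = (p'.1.2 : V) + (p'.1.1 : V) :=
        congrArg Subtype.val h
      have h2 : (p.1.2 : V) - (p'.1.2 : V) = (p'.1.1 : V) - (p.1.1 : V) := by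
        rw [sub_eq_sub_iff_add_eq_add, h1]; abel
      have h3 : (p.1.2 : V) - (p'.1.2 : V) ∈ S ⊓ S1 :=
        ⟨S.sub_mem p.1.2.2 p'.1.2.2, by rw [h2]; exact S1.sub_mem p'.1.1.2 p.1.1.2⟩
      rw [hinf, Submodule.mem_bot, sub_eq_zero] at h3
      have h4 : (p.1.1 : V) = (p'.1.1 : V) := by
        rw [h3] at h1; exact add_left_cancel h1
      apply Subtype.ext
      apply Prod.ext
      · exact Subtype.ext h4
      · exact Subtype.ext h3
    · rintro ⟨v, hvD, hvc⟩
      rw [← hsup] at hvD
      obtain ⟨s, hs, s1, hs1, rfl⟩ := Submodule.mem_sup.mp hvD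
      exact ⟨⟨(⟨s1, hs1⟩, ⟨s, hs⟩), hvc⟩, rfl⟩
  have hfib : ∀ s1 : S1, Nat.card {s : S // Q ((s : V) + (s1 : V)) = c} * Fintype.card F
      = if s1 = 0 then 0 else Nat.card S := by
    intro s1
    split_ifs with h0
    · have : IsEmpty {s : S // Q ((s : V) + (s1 : V)) = c} := by
        constructor
        rintro ⟨s, hs⟩
        rw [h0, Submodule.coe_zero, add_zero, hsing _ s.2] at hs
        exact hc hs.symm
      rw [Nat.card_of_isEmpty, zero_mul]
    · let φ : S →ₗ[F] F := (B.flip (s1 : V)).domRestrict S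
      have hφv : ∀ s : S, φ s = B (s : V) (s1 : V) := fun s => rfl
      have hφ : φ ≠ 0 := by
        intro hz
        have h1 : (s1 : V) ∈ S := by
          apply hK _ (hS1D s1.2)
          intro s hs
          have h2 : φ ⟨s, hs⟩ = 0 := by rw [hz]; rfl
          rw [hφv] at h2
          exact h2
        have h3 : (s1 : V) ∈ S ⊓ S1 := ⟨h1, s1.2⟩
        rw [hinf, Submodule.mem_bot] at h3
        exact h0 (Subtype.ext h3)
      have hset : ∀ s : S, Q ((s : V) + (s1 : V)) = c ↔ φ s = c - Q (s1 : V) := by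
        intro s
        rw [hQ, hsing _ s.2, hφv]
        constructor
        · intro h; rw [← h]; ring
        · intro h; rw [h]; ring
      rw [Nat.card_congr (Equiv.subtypeEquivRight hset)]
      exact fiber_card80 φ hφ _
  rw [← Nat.card_congr (Equiv.ofBijective g hg),
    Nat.card_congr (Equiv.subtypeProdEquivSigmaSubtype
      (fun (s1 : S1) (s : S) => Q ((s : V) + (s1 : V)) = c))]
  have : Fintype S1 := Fintype.ofFinite S1
  rw [Nat.card_sigma, Finset.sum_mul, Finset.sum_congr rfl (fun s1 _ => hfib s1),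
    Finset.sum_ite, Finset.sum_const_zero, zero_add, Finset.sum_const, smul_eq_mul,
    Finset.filter_not, Finset.filter_eq' , if_pos (Finset.mem_univ _),
    Finset.card_sdiff_of_subset (Finset.subset_univ _), Finset.card_univ, Finset.card_singleton,
    ← Nat.card_eq_fintype_card, hcard1]

end generic

section main

variable {F : Type u} [Field F] [Fintype F] {ι : Type} [Fintype ι] [DecidableEq ι]

omit [Fintype F] in
/-- A fixed vector of `x` in the moved space is zero (`x ^ r = 1`, `r ≠ 0` in `F`). -/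
theorem nofix80 (r : ℕ) (x : Matrix ι ι F) (hr : (r : F) ≠ 0) (hpow : x ^ r = 1)
    (v : ι → F) (hv : v ∈ movSp x) (hfix : x *ᵥ v = v) : v = 0 := by
  obtain ⟨u, rfl⟩ := hv
  have hu : x *ᵥ u = u + (Matrix.toLin' x - 1) u := by
    simp
  have key : ∀ t : ℕ, (x ^ t) *ᵥ u = u + (t : F) • (Matrix.toLin' x - 1) u := by
    intro t
    induction t with
    | zero => simp
    | succ t ih =>
      rw [pow_succ', ← Matrix.mulVec_mulVec, ih, Matrix.mulVec_add, Matrix.mulVec_smul, hfix, hu,
        Nat.cast_succ, add_smul, one_smul]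
      abel
  have h := key r
  rw [hpow, Matrix.one_mulVec] at h
  have h2 : (r : F) • (Matrix.toLin' x - 1) u = 0 := by
    have h3 : u + (r : F) • (Matrix.toLin' x - 1) u = u + 0 := by rw [add_zero]; exact h.symm
    exact add_left_cancel h3
  rcases smul_eq_zero.mp h2 with h4 | h4
  · exact absurd h4 hr
  · exact h4

/-- Core of [MINUS]: an invariant nondegenerate subspace of dimension `i = ord_r(q)` (even)
without fixed vectors is not of plus type. -/
theorem minus_core80 (Q : (ι → F) → F) (r : ℕ) (x : Matrix ι ι F) (hx : Std Q r x)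
    (D : Submodule F (ι → F)) (hInv : Inv x D) (hnf : ∀ v ∈ D, x *ᵥ v = v → v = 0)
    (hNd : Nd Q D) (hfin : Module.finrank F D = ordI (Fintype.card F) r) : ¬ Plus Q D := by
  intro hPlus
  classical
  obtain ⟨S, hSD, hSts, hSdim⟩ := hPlus
  have hbil := hx.nondeg.polar_bilinear
  let B : (ι → F) →ₗ[F] (ι → F) →ₗ[F] F :=
    LinearMap.mk₂ F (QuadraticMap.polar Q) hbil.add_left
      (fun c m n => by rw [smul_eq_mul]; exact hbil.smul_left c m n) hbil.add_right
      (fun c m n => by rw [smul_eq_mul]; exact hbil.smul_right c m n)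
  have hB : ∀ u v, B u v = QuadraticMap.polar Q u v := fun u v => rfl
  have hQ : ∀ u v, Q (u + v) = Q u + Q v + B u v := by
    intro u v
    rw [hB, QuadraticMap.polar]; ring
  have hnd : ∀ s ∈ S, s ≠ 0 → ∃ d ∈ D, B s d ≠ 0 := by
    intro s hs hne
    obtain ⟨-, d, hd, hd0⟩ := hNd s (hSD hs) hne
    exact ⟨d, hd, hd0⟩
  have hcount := level_card80 Q B hQ D S hSD hnd hSts hSdim 1 one_ne_zero
  -- the permutation induced by `x` on the vectors of norm 1 in `D`
  have hInv' : ∀ v ∈ D, x *ᵥ v ∈ D := by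
    intro v hv
    have h := hInv (Submodule.mem_map_of_mem hv)
    rwa [Matrix.toLin'_apply] at h
  have hQ0 : Q 0 = 0 := by
    have h := hx.nondeg.smul 0 0
    simpa using h
  let f : Function.End {v : ι → F // v ∈ D ∧ Q v = 1} :=
    fun v => ⟨x *ᵥ v.1, hInv' v.1 v.2.1, by rw [hx.isom]; exact v.2.2⟩
  have hfpow : ∀ (k : ℕ) (v : {v : ι → F // v ∈ D ∧ Q v = 1}),
      ((f ^ k) v : ι → F) = (x ^ k) *ᵥ (v : ι → F) := by
    intro k
    induction k with
    | zero =>
      intro v
      rw [pow_zero, pow_zero, Matrix.one_mulVec]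
      rfl
    | succ k ih =>
      intro v
      rw [pow_succ, pow_succ]
      have h1 : (f ^ k * f) v = (f ^ k) (f v) := rfl
      rw [h1, ih, ← Matrix.mulVec_mulVec]
  have hr := hx.prime
  have : Fact r.Prime := ⟨hr⟩
  have hf : f ^ r ^ 1 = 1 := by
    funext v
    apply Subtype.ext
    rw [pow_one, hfpow, hx.pow, Matrix.one_mulVec]
    rfl
  have hmod := Equiv.Perm.card_fixedPoints_modEq (f := f) (p := r) (n := 1) hf
  have hempty : IsEmpty (Function.fixedPoints f) := by
    constructor
    rintro ⟨v, hv⟩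
    have h1 : x *ᵥ (v : ι → F) = (v : ι → F) := congrArg Subtype.val hv
    have h2 := hnf v.1 v.2.1 h1
    have h3 := v.2.2
    rw [h2, hQ0] at h3
    exact zero_ne_one h3
  have hdvd : r ∣ Nat.card {v : ι → F // v ∈ D ∧ Q v = 1} := by
    rw [Nat.card_eq_fintype_card]
    have h := hmod
    have h0 : Fintype.card (Function.fixedPoints f) = 0 := Fintype.card_eq_zero
    rw [h0] at h
    exact (Nat.modEq_zero_iff_dvd).mp h
  -- arithmetic
  have hcS : Nat.card S = Fintype.card F ^ Module.finrank F S := by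
    rw [Nat.card_eq_fintype_card]
    exact Module.card_eq_pow_finrank
  have hne : ((Fintype.card F : ℕ) : ZMod r) ≠ 0 := by
    rw [Ne, ZMod.natCast_eq_zero_iff]
    exact hx.ndvd
  have hpos : 0 < orderOf ((Fintype.card F : ℕ) : ZMod r) :=
    orderOf_pos_iff.mpr (isOfFinOrder_iff_pow_eq_one.mpr
      ⟨r - 1, Nat.sub_pos_of_lt hr.one_lt, ZMod.pow_card_sub_one_eq_one hne⟩)
  have hi : ordI (Fintype.card F) r = orderOf ((Fintype.card F : ℕ) : ZMod r) := rfl
  have hj0 : Module.finrank F S ≠ 0 := by omega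
  have hjlt : Module.finrank F S < orderOf ((Fintype.card F : ℕ) : ZMod r) := by omega
  have hd2 : r ∣ (Fintype.card F ^ Module.finrank F S - 1) * Fintype.card F ^ Module.finrank F S := by
    rw [← hcS, ← hcount]
    exact Dvd.dvd.mul_right hdvd _
  have hd3 : r ∣ Fintype.card F ^ Module.finrank F S - 1 := by
    rcases (Nat.Prime.dvd_mul hr).mp hd2 with h | h
    · exact h
    · exact absurd (hr.dvd_of_dvd_pow h) hx.ndvd
  have hqpos : 0 < Fintype.card F := Fintype.card_pos
  have h1 : ((Fintype.card F ^ Module.finrank F S - 1 : ℕ) : ZMod r) = 0 :=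
    (ZMod.natCast_eq_zero_iff _ _).mpr hd3
  rw [Nat.cast_sub (Nat.one_le_pow _ _ hqpos), Nat.cast_pow, Nat.cast_one, sub_eq_zero] at h1
  exact pow_ne_one_of_lt_orderOf hj0 hjlt h1

/-- [MINUS] (helper27's cut of [BLK]). -/
theorem pkgMinus : PkgMinus.{u} := by
  intro F _ _ ι _ _ Q r x hx _ D hDm hInv hNd hfin
  exact minus_core80 Q r x hx D hInv
    (fun v hv h => nofix80 r x hx.ne hx.pow v (hDm hv) h) hNd hfin

end main

end Cfsg.Agent.Lib.Helper80.OHyp
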