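-- Team project OHYP (S5992), package [MINUS] of helper59's cut of [BLK] (helper80):
-- unconditional (no [SINGCNT] needed).
import Cfsg.Agent.Lib.Helper59.OHyp.BlkDefs
import Cfsg.Agent.Lib.Helper80.OHyp.Minus27

set_option autoImplicit false
open Matrix

namespace Cfsg.Agent.Lib.Helper80.OHyp

universe u

/-- [MINUS] (helper59's cut of [BLK]), unconditionally. -/
theorem pkgMinus59 : Cfsg.Agent.Lib.Helper59.OHyp.PkgMinus.{u} := by
  intro F _ _ ι _ _ Q r x hx D hMin hnf hNd _ hfin
  exact minus_core80 Q r x hx D hMin.1 hnf hNd hfin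

/-- [MINUS] (helper59's cut of [BLK]) in the requested conditional form. -/
theorem pkgMinus59_of (_h : Cfsg.Agent.Lib.Helper59.OHyp.PkgSingCnt.{u}) :
    Cfsg.Agent.Lib.Helper59.OHyp.PkgMinus.{u} := pkgMinus59

end Cfsg.Agent.Lib.Helper80.OHyp
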